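import Groth.Agent.Lib.AntiAffMin19.Decomp
import Groth.Prelude.Def_W4c3convisocdirimgFrobIter
import Groth.Prelude.Def_Red
import Mathlib

/-!
# Subgroups over a purely inseparable extension lie in subgroups over the base field

If a natural endomorphism of schemes over `k` (an iterated Frobenius) factors on `Spec K` through
`Spec k`, then a closed subgroup of `G_K` is contained, with the same points, in the base change of
the preimage of its twist.
-/

set_option autoImplicit false
set_option linter.style.haveILetI false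
set_option backward.isDefEq.respectTransparency false
set_option backward.isDefEq.respectTransparency.types false
universe u

open CategoryTheory CategoryTheory.Limits MonoidalCategory CartesianMonoidalCategory MonObj GrpObj AlgebraicGeometry

namespace Groth.Agent.FrobSub19

/-- Components of natural maps into a cartesian functor respect group laws. -/
theorem isMonHom_app {C D : Type*} [Category C] [Category D] [CartesianMonoidalCategory C]
    [CartesianMonoidalCategory D] (F₁ : C ⥤ D) (F₂ : D ⥤ C) [F₁.Monoidal] [F₂.Monoidal]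
    (τ : ∀ T : C, T ⟶ F₂.obj (F₁.obj T))
    (hτ : ∀ {T T' : C} (f : T ⟶ T'), f ≫ τ T' = τ T ≫ F₂.map (F₁.map f)) (M : C) [GrpObj M] :
    letI : GrpObj (F₁.obj M) := Functor.grpObjObj
    letI : GrpObj (F₂.obj (F₁.obj M)) := Functor.grpObjObj
    IsMonHom (τ M) := by
  letI : GrpObj (F₁.obj M) := Functor.grpObjObj
  letI : GrpObj (F₂.obj (F₁.obj M)) := Functor.grpObjObj
  let F := F₁ ⋙ F₂
  have hu : τ (𝟙_ C) = Functor.LaxMonoidal.ε F := by
    rw [← cancel_mono (Functor.OplaxMonoidal.η F)]
    exact toUnit_unique _ _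
  have hm : τ (M ⊗ M) = (τ M ⊗ₘ τ M) ≫ Functor.LaxMonoidal.μ F M M := by
    rw [← cancel_mono (Functor.OplaxMonoidal.δ F M M), Category.assoc, Functor.Monoidal.μ_δ]
    erw [Category.comp_id]
    rw [Functor.OplaxMonoidal.δ_of_cartesianMonoidalCategory]
    apply CartesianMonoidalCategory.hom_ext
    · rw [Category.assoc, CartesianMonoidalCategory.prodComparison_fst]
      erw [tensorHom_fst]
      exact (hτ (fst M M)).symm
    · rw [Category.assoc, CartesianMonoidalCategory.prodComparison_snd]
      erw [tensorHom_snd]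
      exact (hτ (snd M M)).symm
  constructor
  · have h : η[M] ≫ τ M = τ (𝟙_ C) ≫ F.map η[M] := hτ η[M]
    refine h.trans ?_
    rw [hu]
    simp [F]
  · have h : μ[M] ≫ τ M = τ (M ⊗ M) ≫ F.map μ[M] := hτ μ[M]
    refine h.trans ?_
    rw [hm]
    simp [F]

section Char

variable {k : Type u} [Field k] (p : ℕ) [Fact p.Prime] [CharP k p]

/-- The iterated absolute Frobenius of a scheme over `k`. -/
noncomputable def frN (n : ℕ) (T : Over (Spec (CommRingCat.of k))) : T.left ⟶ T.left :=
  haveI := FrobSch.IsCharP.of_hom T.hom p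
  FrobSch.frobIter T.left p n

theorem frobIter_comp {X Y : Scheme.{u}} [FrobSch.IsCharP X p] [FrobSch.IsCharP Y p] (f : X ⟶ Y) :
    ∀ n, FrobSch.frobIter X p n ≫ f = f ≫ FrobSch.frobIter Y p n
  | 0 => by simp
  | n + 1 => by
    rw [FrobSch.frobIter_succ, FrobSch.frobIter_succ, Category.assoc, frobIter_comp f n,
      FrobSch.frob_comp_assoc p f]

theorem frobIter_apply {X : Scheme.{u}} [FrobSch.IsCharP X p] : ∀ (n : ℕ) (x : X), FrobSch.frobIter X p n x = x
  | 0, x => rfl
  | n + 1, x => by
    rw [FrobSch.frobIter_succ, Scheme.Hom.comp_apply, FrobSch.frob_apply]; exact frobIter_apply n x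

theorem frobIter_appTop {X : Scheme.{u}} [FrobSch.IsCharP X p] : ∀ (n : ℕ) (s : Γ(X, ⊤)),
    (FrobSch.frobIter X p n).appTop s = s ^ p ^ n
  | 0, s => by simp
  | n + 1, s => by
    rw [FrobSch.frobIter_succ, Scheme.Hom.comp_appTop, CommRingCat.comp_apply, frobIter_appTop n s, map_pow,
      FrobSch.frob_appTop, ← pow_mul, pow_succ']

/-- The iterated Frobenius of a spectrum. -/
theorem frobIter_spec (R : Type u) [CommRing R] [CharP R p] (n : ℕ) (ψ : R →+* R) (hψ : ∀ r, ψ r = r ^ p ^ n) :
    FrobSch.frobIter (Spec (CommRingCat.of R)) p n = Spec.map (CommRingCat.ofHom ψ) := by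
  refine ext_of_isAffine (CommRingCat.hom_ext (RingHom.ext fun s => ?_))
  apply (Scheme.ΓSpecIso (CommRingCat.of R)).commRingCatIsoToRingEquiv.injective
  rw [frobIter_appTop, map_pow]
  have h := ConcreteCategory.congr_hom (Scheme.ΓSpecIso_naturality (CommRingCat.ofHom ψ)) s
  exact ((hψ _).symm.trans h.symm)

end Char

/-- Closed immersions are stable under base change. -/
theorem isClosedImmersion_map {S S' : Scheme.{u}} (f : S' ⟶ S) {X Y : Over S} (m : X ⟶ Y)
    (hm : IsClosedImmersion m.left) : IsClosedImmersion ((Over.pullback f).map m).left := by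
  have h : IsPullback (pullback.fst X.hom f) ((Over.pullback f).map m).left m.left (pullback.fst Y.hom f) := by
    refine IsPullback.of_bot (v₂₁ := ((Over.pullback f).obj Y).hom) (v₂₂ := Y.hom) (h₃₁ := f) ?_ ?_
      (IsPullback.of_hasPullback Y.hom f)
    · rw [Over.w m, Over.w ((Over.pullback f).map m)]
      exact IsPullback.of_hasPullback X.hom f
    · exact (Limits.pullback.lift_fst _ _ _).symm
  exact MorphismProperty.of_isPullback (P := @IsClosedImmersion) h hm

variable {k K : Type u} [Field k] [Field K]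

/-- A closed subgroup of `G_K` lies in the base change of a closed subgroup of `G` with the same points. -/
theorem exists_subgroup (σ : Spec (CommRingCat.of K) ⟶ Spec (CommRingCat.of k)) [UniversallyInjective σ]
    (F : Spec (CommRingCat.of k) ⟶ Spec (CommRingCat.of k))
    (fr : ∀ T : Over (Spec (CommRingCat.of k)), T.left ⟶ T.left)
    (hfrb : ∀ (T : Over (Spec (CommRingCat.of k))) (x : T.left), fr T x = x)
    (hnat : ∀ {T T' : Over (Spec (CommRingCat.of k))} (f : T ⟶ T'), fr T ≫ f.left = f.left ≫ fr T')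
    (hF : ∀ T : Over (Spec (CommRingCat.of k)), fr T ≫ T.hom = T.hom ≫ F)
    (ρ : Spec (CommRingCat.of k) ⟶ Spec (CommRingCat.of K))
    (hρσ : ρ ≫ σ = F) (hσρ : σ ≫ ρ = fr (Over.mk σ))
    (G : Over (Spec (CommRingCat.of k))) [GrpObj G] [LocallyOfFiniteType G.hom]
    (H' : Over (Spec (CommRingCat.of K))) [GrpObj H']
    (h' : H' ⟶ Red.bc σ G) [IsMonHom h'] [IsClosedImmersion h'.left] :
    ∃ (H : Over (Spec (CommRingCat.of k))) (_ : GrpObj H) (h : H ⟶ G), IsMonHom h ∧ IsClosedImmersion h.left ∧
      ∃ g : H' ⟶ Red.bc σ H, g ≫ (Over.pullback σ).map h = h' ∧ Surjective g.left := by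
  -- the relative Frobenius
  have hF' : ∀ T : Over (Spec (CommRingCat.of k)), fr T ≫ T.hom = (T.hom ≫ ρ) ≫ σ := fun T => by
    rw [Category.assoc, hρσ, hF]
  let Φ : ∀ T : Over (Spec (CommRingCat.of k)), T ⟶ Red.bc ρ (Red.bc σ T) := fun T =>
    Over.homMk (pullback.lift (pullback.lift (fr T) (T.hom ≫ ρ) (hF' T)) T.hom
      (pullback.lift_snd _ _ _)) (pullback.lift_snd _ _ _)
  have hΦn : ∀ {T T' : Over (Spec (CommRingCat.of k))} (f : T ⟶ T'),
      f ≫ Φ T' = Φ T ≫ (Over.pullback ρ).map ((Over.pullback σ).map f) := by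
    intro T T' f
    refine Over.OverMorphism.ext (pullback.hom_ext (pullback.hom_ext ?_ ?_) ?_)
    · simp [Φ, hnat]
    · simp [Φ]
    · simp [Φ]
  haveI hΦm : IsMonHom (Φ G) := isMonHom_app (Over.pullback σ) (Over.pullback ρ) Φ hΦn G
  let j : Red.bc ρ H' ⟶ Red.bc ρ (Red.bc σ G) := (Over.pullback ρ).map h'
  haveI : IsMonHom j := inferInstanceAs (IsMonHom ((Over.pullback ρ).map h'))
  haveI : IsClosedImmersion ((Over.pullback ρ).map h').left := isClosedImmersion_map ρ h' ‹_›
  haveI : IsClosedImmersion j.left := inferInstanceAs (IsClosedImmersion ((Over.pullback ρ).map h').left)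
  haveI : Mono j := Over.mono_of_mono_left j
  obtain ⟨_, hfst⟩ := AntiAffMin19.exists_pullback_grp (Φ G) j
  haveI := AntiAffMin19.isClosedImmersion_pullback_fst (Φ G) j
  let H := pullback (Φ G) j
  let h : H ⟶ G := pullback.fst (Φ G) j
  refine ⟨H, inferInstance, h, hfst, inferInstance, ?_⟩
  -- the factorization
  let H'k : Over (Spec (CommRingCat.of k)) := Over.mk (H'.hom ≫ σ)
  let q : H'k ⟶ G := Over.homMk (h'.left ≫ pullback.fst G.hom σ) (by
    show (_ ≫ _) ≫ G.hom = _
    rw [Category.assoc, pullback.condition, ← Category.assoc]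
    congr 1
    exact Over.w h')
  let a : H'k ⟶ Red.bc ρ H' := Over.homMk (pullback.lift (fr H'k) (H'.hom ≫ σ) (by
      rw [Category.assoc, hσρ]
      exact hnat (Over.homMk H'.hom rfl : H'k ⟶ Over.mk σ))) (pullback.lift_snd _ _ _)
  have hc : q ≫ Φ G = a ≫ j := by
    refine Over.OverMorphism.ext (pullback.hom_ext (pullback.hom_ext ?_ ?_) ?_)
    · simpa [Φ, j, a, q] using (hnat q).symm
    · have hh : h'.left ≫ pullback.snd G.hom σ = H'.hom := Over.w h'
      simp [Φ, j, a, q, reassoc_of% hh, hh, pullback.condition_assoc, hσρ]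
      exact (hnat (Over.homMk H'.hom rfl : H'k ⟶ Over.mk σ)).symm
    · have hh : h'.left ≫ pullback.snd G.hom σ = H'.hom := Over.w h'
      simp [Φ, j, a, q, reassoc_of% hh, pullback.condition]
  let u : H'k ⟶ H := pullback.lift q a hc
  let g : H' ⟶ Red.bc σ H := Over.homMk (pullback.lift u.left H'.hom (Over.w u)) (pullback.lift_snd _ _ _)
  have hg : g ≫ (Over.pullback σ).map h = h' := by
    refine Over.OverMorphism.ext (pullback.hom_ext ?_ ?_)
    · have e1 : u.left ≫ h.left = h'.left ≫ pullback.fst G.hom σ := by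
        rw [← Over.comp_left, pullback.lift_fst]; rfl
      simpa [g] using e1
    · have hh : h'.left ≫ pullback.snd G.hom σ = H'.hom := Over.w h'
      simp [g, hh]
  refine ⟨g, hg, ⟨fun z => ?_⟩⟩
  haveI : IsClosedImmersion h.left := inferInstance
  haveI : IsClosedImmersion ((Over.pullback σ).map h).left := isClosedImmersion_map σ h ‹_›
  haveI : UniversallyInjective (pullback.fst G.hom σ) := MorphismProperty.pullback_fst _ _ inferInstance
  -- the image of `H` in `G` lies in the image of `H'`
  let x : G.left := h.left (pullback.fst H.hom σ z)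
  obtain ⟨w, hw⟩ : ∃ w : H'.left, (h'.left ≫ pullback.fst G.hom σ) w = x := by
    have hp : h ≫ Φ G = pullback.snd (Φ G) j ≫ j := pullback.condition
    have hp' := congrArg (fun φ => φ.left ≫ pullback.fst _ _ ≫ pullback.fst G.hom σ) hp
    simp [Φ, j] at hp'
    refine ⟨((pullback.snd (Φ G) j).left ≫ pullback.fst H'.hom ρ) (pullback.fst H.hom σ z), ?_⟩
    have h1 := congrArg (fun φ => φ (pullback.fst H.hom σ z)) hp'
    simp only [Scheme.Hom.comp_apply, hfrb] at h1
    exact h1.symm
  refine ⟨w, ((Over.pullback σ).map h).left.isClosedEmbedding.injective ?_⟩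
  rw [← AbRigid.left_comp_apply, hg]
  refine (pullback.fst G.hom σ).injective ?_
  refine ((Scheme.Hom.comp_apply _ _ _).symm.trans hw).trans ?_
  show (pullback.fst H.hom σ ≫ h.left) z = (((Over.pullback σ).map h).left ≫ pullback.fst G.hom σ) z
  simp

end Groth.Agent.FrobSub19
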